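import Groth.Agent.Lib.FMComp25.Kernel
import Groth.Agent.Lib.TorBC25.Perfect
import Groth.Prelude.Def_SGA6
import Groth.Prelude.Def_DualFM

/-! # Fourier–Mukai equivalences -/

set_option autoImplicit false
set_option maxHeartbeats 2000000
set_option linter.style.haveILetI false
set_option backward.isDefEq.respectTransparency false
universe u

open CategoryTheory CategoryTheory.Limits AlgebraicGeometry HomologicalComplex
open DerivedCategory (Q Qh)

attribute [local instance] HasDerivedCategory.standard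

noncomputable section

namespace GrothLib.FMComp25

open GrothLib.OX GrothLib.FMId25

variable {S X Y Z : Scheme.{u}} (a : X ⟶ S) (b : Y ⟶ S) (c : Z ⟶ S)

theorem qcqs_snd [QuasiCompact a] [QuasiSeparated a] :
    QuasiCompact (pullback.snd a b) ∧ QuasiSeparated (pullback.snd a b) :=
  ⟨MorphismProperty.of_isPullback (P := @QuasiCompact) (IsPullback.of_hasPullback a b) inferInstance,
    MorphismProperty.of_isPullback (P := @QuasiSeparated) (IsPullback.of_hasPullback a b) inferInstance⟩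

/-- **Composition of Fourier–Mukai transforms with a flat first factor.** -/
theorem nonempty_phi_comp [QuasiCompact a] [QuasiSeparated a] [QuasiCompact b] [QuasiSeparated b] [Flat a]
    (K : CochainComplex (pullback a b).Modules ℤ) (M : CochainComplex (pullback b c).Modules ℤ)
    (hK : DCoh.IsQCohD (Q.obj K)) (hM : DCoh.IsQCohD (Q.obj M))
    [DCoh.HasLpull (pullback.fst a b)] [DCoh.HasLTensorCx K] [DCoh.HasRpush (pullback.snd a b)]
    [DCoh.HasLpull (pullback.fst b c)] [DCoh.HasLTensorCx M] [DCoh.HasRpush (pullback.snd b c)]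
    [DCoh.HasLpull (FMK.p12 a b c)] [DCoh.HasLTensorCx ((FMK.cxPull (FMK.p23 a b c)).obj M)]
    [DCoh.HasRpush (FMK.p13 a b c)] [QuasiCompact c] [QuasiSeparated c]
    [DCoh.HasLpull (pullback.fst a c)] [DCoh.HasRpush (pullback.snd a c)]
    (N : CochainComplex (pullback a c).Modules ℤ) [DCoh.HasLTensorCx N]
    (eN : Q.obj N ≅ FMK.conv a b c K ((FMK.cxPull (FMK.p23 a b c)).obj M)) :
    Nonempty ((DCoh.IsQCohD (X := X)).ι ⋙ FMK.phi a c N ≅
      (DCoh.IsQCohD (X := X)).ι ⋙ FMK.phi a b K ⋙ FMK.phi b c M) := by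
  obtain ⟨_, _⟩ := qcqs_snd a b
  haveI : QuasiCompact (pullback.snd b c) := (qcqs_snd b c).1
  haveI : QuasiSeparated (pullback.snd b c) := (qcqs_snd b c).2
  have sq := IsPullback.of_hasPullback (pullback.snd a b) (pullback.fst b c)
  have sq13 := isPullback_p13 a b c
  haveI : QuasiCompact (FMK.p13 a b c) := MorphismProperty.of_isPullback (P := @QuasiCompact) sq13 inferInstance
  haveI : QuasiSeparated (FMK.p13 a b c) := MorphismProperty.of_isPullback (P := @QuasiSeparated) sq13 inferInstance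
  haveI : QuasiCompact (FMK.p23 a b c) := MorphismProperty.of_isPullback (P := @QuasiCompact) sq inferInstance
  haveI : QuasiSeparated (FMK.p23 a b c) := MorphismProperty.of_isPullback (P := @QuasiSeparated) sq inferInstance
  haveI : Flat (pullback.snd a b) :=
    MorphismProperty.of_isPullback (P := @Flat) (IsPullback.of_hasPullback a b) inferInstance
  haveI : Flat (FMK.p23 a b c) := MorphismProperty.of_isPullback (P := @Flat) sq inferInstance
  haveI := OX.hasLpull (FMK.p23 a b c)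
  obtain ⟨f⟩ := nonempty_pullCx_flat (FMK.p23 a b c) M
  exact nonempty_fm_comp _ _ _ _ _ _ _ _ _ sq (FMK.p13_fst a b c) (FMK.p13_snd a b c) (Or.inl inferInstance)
    K M hK hM _ f N eN

/-- **Two transforms with kernels inverse to one another.** -/
theorem nonempty_phi_phi_id [QuasiCompact a] [IsSeparated a] [QuasiCompact b] [QuasiSeparated b] [Flat a]
    (K : CochainComplex (pullback a b).Modules ℤ) (M : CochainComplex (pullback b a).Modules ℤ)
    (hK : DCoh.IsQCohD (Q.obj K)) (hM : DCoh.IsQCohD (Q.obj M))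
    [DCoh.HasLpull (pullback.fst a b)] [DCoh.HasLTensorCx K] [DCoh.HasRpush (pullback.snd a b)]
    [DCoh.HasLpull (pullback.fst b a)] [DCoh.HasLTensorCx M] [DCoh.HasRpush (pullback.snd b a)]
    [DCoh.HasLpull (FMK.p12 a b a)] [DCoh.HasLTensorCx ((FMK.cxPull (FMK.p23 a b a)).obj M)]
    [DCoh.HasRpush (FMK.p13 a b a)]
    (e : FMK.diagO a ≅ FMK.conv a b a K ((FMK.cxPull (FMK.p23 a b a)).obj M)) :
    Nonempty ((DCoh.IsQCohD (X := X)).ι ⋙ FMK.phi a b K ⋙ FMK.phi b a M ≅ (DCoh.IsQCohD (X := X)).ι) := by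
  let N := (single (pullback a a).Modules (ComplexShape.up ℤ) 0).obj
    ((Coh.push (pullback.diagonal a)).obj (Coh.structureModule X))
  let i : Q.obj N ≅ FMK.diagO a := ((DerivedCategory.singleFunctorIsoCompQ (pullback a a).Modules 0).app _).symm
  haveI := OX.hasLTensorCx N
  haveI := OX.hasLpull (pullback.fst a a)
  haveI : DCoh.HasRpush (pullback.snd a a) := KInj.hasRightDerivedFunctor _
  obtain ⟨c⟩ := nonempty_phi_comp a b a K M hK hM N (i ≪≫ e)
  obtain ⟨o⟩ := FMId25.nonempty_diagonal_id (pullback.diagonal a) (pullback.fst a a) (pullback.snd a a)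
    (pullback.diagonal_fst a) (pullback.diagonal_snd a) N i
  exact ⟨c.symm ≪≫ Functor.isoWhiskerLeft _ o ≪≫ Functor.rightUnitor _⟩

theorem isQCohD_phi [QuasiCompact a] [QuasiSeparated a] (K : CochainComplex (pullback a b).Modules ℤ)
    (hK : DCoh.IsQCohD (Q.obj K))
    [DCoh.HasLpull (pullback.fst a b)] [DCoh.HasLTensorCx K] [DCoh.HasRpush (pullback.snd a b)]
    (M : DCoh.D X) (hM : DCoh.IsQCohD M) : DCoh.IsQCohD ((FMK.phi a b K).obj M) := by
  obtain ⟨_, _⟩ := qcqs_snd a b
  exact isQCohD_iso ((rpushIsoRres (pullback.snd a b)).app _).symm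
    (isQCohD_Rres _ _ (RightAdj22.isQCohD_ltensor K hK (SuppTens22.isQCohD_lpull _ hM)))

theorem isPerfect_phi [IsProper a] [Flat a] [LocallyOfFinitePresentation a]
    (K : CochainComplex (pullback a b).Modules ℤ) (hK : DCoh.IsPerfect (Q.obj K))
    [DCoh.HasLpull (pullback.fst a b)] [DCoh.HasLTensorCx K] [DCoh.HasRpush (pullback.snd a b)]
    (M : DCoh.D X) (hM : DCoh.IsPerfect M) : DCoh.IsPerfect ((FMK.phi a b K).obj M) := by
  have ha := IsPullback.of_hasPullback a b
  haveI : IsProper (pullback.snd a b) := MorphismProperty.of_isPullback (P := @IsProper) ha inferInstance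
  haveI : Flat (pullback.snd a b) := MorphismProperty.of_isPullback (P := @Flat) ha inferInstance
  haveI : LocallyOfFinitePresentation (pullback.snd a b) :=
    MorphismProperty.of_isPullback (P := @LocallyOfFinitePresentation) ha inferInstance
  obtain ⟨P, hP, ⟨eP⟩⟩ := exists_kflat_rep (Q.obj K)
  haveI := OX.hasLTensorCx P
  obtain ⟨c⟩ := nonempty_ltensorCx_congr_of_iso eP.symm
  exact isPerfect_of_iso (TorBC25.isPerfect_RR (pullback.snd a b)
      (isPerfect_of_iso (isPerfect_ltensor P hP (isPerfect_of_iso hK eP.symm) (isPerfect_lpull _ hM)) (c.app _).symm))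
    ((rpushIsoRres (pullback.snd a b)).app _).symm

/-- Functors inverse to one another on full subcategories. -/
theorem isEquivalence_lift {C D : Type*} [Category C] [Category D] (P : ObjectProperty C) (Q' : ObjectProperty D)
    (F : C ⥤ D) (G : D ⥤ C) (hF : ∀ M : P.FullSubcategory, Q' ((P.ι ⋙ F).obj M))
    (hG : ∀ M : Q'.FullSubcategory, P ((Q'.ι ⋙ G).obj M)) (η : P.ι ⋙ F ⋙ G ≅ P.ι) (ε : Q'.ι ⋙ G ⋙ F ≅ Q'.ι) :
    (Q'.lift (P.ι ⋙ F) hF).IsEquivalence :=
  (CategoryTheory.Equivalence.mk (Q'.lift (P.ι ⋙ F) hF) (P.lift (Q'.ι ⋙ G) hG)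
    (Functor.fullyFaithfulCancelRight P.ι
      (show 𝟭 _ ⋙ P.ι ≅ (Q'.lift (P.ι ⋙ F) hF ⋙ P.lift (Q'.ι ⋙ G) hG) ⋙ P.ι from η.symm))
    (Functor.fullyFaithfulCancelRight Q'.ι
      (show (P.lift (Q'.ι ⋙ G) hG ⋙ Q'.lift (P.ι ⋙ F) hF) ⋙ Q'.ι ≅ 𝟭 _ ⋙ Q'.ι from ε))).isEquivalence_functor

end GrothLib.FMComp25
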