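import Groth.Agent.Lib.FMComp25.Main

/-! # Base change of Fourier–Mukai transforms -/

set_option autoImplicit false
set_option maxHeartbeats 2000000
set_option linter.style.haveILetI false
set_option backward.isDefEq.respectTransparency false
universe u

open CategoryTheory CategoryTheory.Limits AlgebraicGeometry HomologicalComplex
open DerivedCategory (Q Qh)

attribute [local instance] HasDerivedCategory.standard

noncomputable section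

namespace GrothLib.FMComp25

open GrothLib.OX GrothLib.FMId25

variable {X X' Y Y' A A' : Scheme.{u}}

/-- **Base change of a Fourier–Mukai transform, for an abstract square.** -/
theorem nonempty_fm_bc (p : A ⟶ X) (q : A ⟶ Y) (p' : A' ⟶ X') (q' : A' ⟶ Y') (π : X' ⟶ X) (ϖ : Y' ⟶ Y)
    (m : A' ⟶ A) (sq : IsPullback m q' q ϖ) (hm : p' ≫ π = m ≫ p)
    [QuasiCompact q] [QuasiSeparated q] (hflat : Flat q ∨ Flat ϖ)
    (K : CochainComplex A.Modules ℤ) (hK : DCoh.IsQCohD (Q.obj K))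
    [DCoh.HasLpull p] [DCoh.HasLTensorCx K] [DCoh.HasRpush q] [DCoh.HasLpull π] [DCoh.HasLpull ϖ] [DCoh.HasLpull m]
    (K' : CochainComplex A'.Modules ℤ) (eK' : Q.obj K' ≅ (DCoh.Lpull m).obj (Q.obj K))
    [DCoh.HasLpull p'] [DCoh.HasLTensorCx K'] [DCoh.HasRpush q'] :
    Nonempty ((DCoh.IsQCohD (X := X)).ι ⋙ DCoh.Lpull π ⋙ (DCoh.Lpull p' ⋙ DCoh.LTensorCx K' ⋙ DCoh.Rpush q') ≅
      (DCoh.IsQCohD (X := X)).ι ⋙ (DCoh.Lpull p ⋙ DCoh.LTensorCx K ⋙ DCoh.Rpush q) ⋙ DCoh.Lpull ϖ) := by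
  obtain ⟨K₁, hK₁, ⟨eK⟩⟩ := exists_kflat_rep (Q.obj K)
  let K₀ := (pullCxF m).obj K₁
  haveI := OX.hasLTensorCx K₁
  haveI := OX.hasLTensorCx K₀
  haveI := OX.hasLpull (p' ≫ π)
  haveI := OX.hasLpull (m ≫ p)
  obtain ⟨v⟩ := lpull_value m K₁ hK₁
  obtain ⟨cK⟩ := nonempty_ltensorCx_congr_of_iso eK.symm
  obtain ⟨cK'⟩ := nonempty_ltensorCx_congr_of_iso (eK' ≪≫ (DCoh.Lpull m).mapIso eK.symm ≪≫ v :
    Q.obj K' ≅ Q.obj K₀)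
  obtain ⟨lt⟩ := nonempty_lpull_ltensor_nat m K₁ hK₁
  obtain ⟨bc⟩ := nonempty_bc_nat sq hflat
  let ι := (DCoh.IsQCohD (X := X)).ι
  have h2 : ∀ E : (DCoh.IsQCohD (X := X)).FullSubcategory,
      DCoh.IsQCohD ((ι ⋙ DCoh.Lpull p ⋙ DCoh.LTensorCx K).obj E) :=
    fun E => RightAdj22.isQCohD_ltensor K hK (SuppTens22.isQCohD_lpull p E.property)
  let a : ι ⋙ DCoh.Lpull π ⋙ (DCoh.Lpull p' ⋙ DCoh.LTensorCx K' ⋙ DCoh.Rpush q') ≅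
      (ι ⋙ DCoh.Lpull (m ≫ p) ⋙ DCoh.LTensorCx K₀) ⋙ DCoh.Rpush q' :=
    (Functor.isoWhiskerRight (Functor.isoWhiskerLeft ι
      (NatIso.hcomp (lpullCompIso p' π ≪≫ lpullCongr hm) cK')) (DCoh.Rpush q') :
      (ι ⋙ (DCoh.Lpull π ⋙ DCoh.Lpull p') ⋙ DCoh.LTensorCx K') ⋙ DCoh.Rpush q' ≅ _)
  let b : ι ⋙ (DCoh.Lpull p ⋙ DCoh.LTensorCx K ⋙ DCoh.Rpush q) ⋙ DCoh.Lpull ϖ ≅
      (ι ⋙ DCoh.Lpull (m ≫ p) ⋙ DCoh.LTensorCx K₀) ⋙ DCoh.Rpush q' :=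
    (restrictIso bc (ι ⋙ DCoh.Lpull p ⋙ DCoh.LTensorCx K) h2 :
      (ι ⋙ DCoh.Lpull p ⋙ DCoh.LTensorCx K) ⋙ DCoh.Rpush q ⋙ DCoh.Lpull ϖ ≅ _) ≪≫
    (Functor.isoWhiskerRight (Functor.isoWhiskerLeft ι (Functor.isoWhiskerLeft (DCoh.Lpull p)
        (Functor.isoWhiskerRight cK _ ≪≫ lt))) (DCoh.Rpush q') :
      (ι ⋙ DCoh.Lpull p ⋙ (DCoh.LTensorCx K ⋙ DCoh.Lpull m)) ⋙ DCoh.Rpush q' ≅ _) ≪≫
    Functor.isoWhiskerRight (Functor.isoWhiskerLeft ι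
      ((Functor.associator _ _ _).symm ≪≫ Functor.isoWhiskerRight (lpullCompIso m p) _)) (DCoh.Rpush q')
  exact ⟨a ≪≫ b.symm⟩

end GrothLib.FMComp25
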