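import Groth.Agent.Lib.FMId25.Closed
import Groth.Agent.Lib.RightAdj22.Adjoint
import Groth.Agent.Lib.OX.RHomRestrict
import Groth.Agent.Lib.BaseChange22.Square

/-! # Natural forms of base change, of the projection formula and of pullbacks of tensor products -/

set_option autoImplicit false
set_option maxHeartbeats 1000000
set_option linter.style.haveILetI false
set_option backward.isDefEq.respectTransparency false
universe u

open CategoryTheory CategoryTheory.Limits AlgebraicGeometry HomologicalComplex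
open DerivedCategory (Q Qh)

attribute [local instance] HasDerivedCategory.standard

noncomputable section

namespace GrothLib.FMComp25

open GrothLib.OX GrothLib.FMId25

variable {X Y : Scheme.{u}}

theorem flip_case {A B C : Type*} [Category A] [Category B] [Category C] (p : C → Prop) (F : A ⥤ B ⥤ C) (a : A)
    (b : B) (h : p ((F.obj a).obj b)) : p ((F.flip.obj b).obj a) := h

theorem isQCohD_iso {X : Scheme.{u}} {K K' : DCoh.D X} (e : K ≅ K') (hK : DCoh.IsQCohD K) : DCoh.IsQCohD K' :=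
  fun i => isQCoh_of_iso ((DerivedCategory.homologyFunctor X.Modules i).mapIso e) (hK i)

section Proj

variable (f : X ⟶ Y) (A : CochainComplex X.Modules ℤ)

/-- `P ↦ Rf_*(f^*P ⊗ A)`. -/
abbrev projTgt : CochainComplex Y.Modules ℤ ⥤ DCoh.D Y :=
  pullCxF f ⋙ DCoh.tensorCxQ A ⋙ SiteDer.Rres (rmor f)

theorem cxResolvable_projTgt : Derive.CxResolvable DCoh.IsKFlat (projTgt f A) where
  homotopy _ _ a b := fun ⟨h⟩ => congrArg (SiteDer.Rres (rmor f)).map
    ((cxResolvable_tensor A).homotopy _ _ ⟨(Scheme.Modules.pullback f).mapHomotopy h⟩)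
  exists_res K := by
    obtain ⟨P, q, hP, -, hq, -⟩ := exists_kflat_resolution K
    exact ⟨P, q, hP, hq⟩
  inverts K L φ hK hL hφ :=
    map_isIso_of (SiteDer.Rres (rmor f)) ((cxResolvable_tensor A).inverts _ (isKFlat_pullback f hK)
      (isKFlat_pullback f hL) (quasiIso_pullback f φ hK hL))

variable [DCoh.HasLpull f] [DCoh.HasLTensorCx A] [DCoh.HasRpush f]

/-- The comparison of `Rf_*(Lf^*(-) ⊗ᴸ A)` with its underived form. -/
def tgtCounit : Q ⋙ DCoh.Lpull f ⋙ DCoh.LTensorCx A ⋙ DCoh.Rpush f ⟶ projTgt f A :=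
  Functor.whiskerRight (lpullCxCounit f) (DCoh.LTensorCx A ⋙ DCoh.Rpush f) ≫
    Functor.whiskerLeft (pullCxF f) (Functor.whiskerRight ((DCoh.tensorCxQ A).totalLeftDerivedCounit Q
        (HomologicalComplex.quasiIso X.Modules (ComplexShape.up ℤ))) (DCoh.Rpush f)) ≫
    Functor.whiskerLeft (pullCxF f) (Functor.whiskerLeft (DCoh.tensorCxQ A) (rpushIsoRres f).hom)

theorem isIso_tgtCounit_app {P : CochainComplex Y.Modules ℤ} (hP : DCoh.IsKFlat P) :
    IsIso ((tgtCounit f A).app P) := by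
  have := isIso_lpullCxCounit_app f hP
  have := (cxResolvable_tensor A).isIso_app_of_isLeftDerivedFunctor (DCoh.LTensorCx A)
    ((DCoh.tensorCxQ A).totalLeftDerivedCounit Q (HomologicalComplex.quasiIso X.Modules (ComplexShape.up ℤ)))
    (isKFlat_pullback f hP)
  simp only [tgtCounit, NatTrans.comp_app, Functor.whiskerRight_app, Functor.whiskerLeft_app, Functor.comp_map]
  infer_instance

/-- The projection map with a natural K-injective factor, on quasi-coherent objects downstairs. -/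
theorem nonempty_proj_injK (hA : InjK A) (hAq : DCoh.IsQCohD (Q.obj A)) [DCoh.HasLTensorCx ((pushCxF f).obj A)]
    [QuasiCompact f] [QuasiSeparated f] :
    Nonempty ((DCoh.IsQCohD (X := Y)).ι ⋙ DCoh.LTensorCx ((pushCxF f).obj A) ≅
      (DCoh.IsQCohD (X := Y)).ι ⋙ DCoh.Lpull f ⋙ DCoh.LTensorCx A ⋙ DCoh.Rpush f) := by
  let W := HomologicalComplex.quasiIso Y.Modules (ComplexShape.up ℤ)
  let B := (pushCxF f).obj A
  let αB := (DCoh.tensorCxQ B).totalLeftDerivedCounit Q W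
  let G := DCoh.Lpull f ⋙ DCoh.LTensorCx A ⋙ DCoh.Rpush f
  have hG := (cxResolvable_projTgt f A).isLeftDerivedFunctor G (tgtCounit f A) fun P hP => isIso_tgtCounit_app f A hP
  let Θ : DCoh.LTensorCx B ⟶ G := G.leftDerivedLift (tgtCounit f A) W (DCoh.LTensorCx B) (αB ≫ projNat f A)
  have hfac : ∀ P, Θ.app (Q.obj P) ≫ (tgtCounit f A).app P = αB.app P ≫ (projNat f A).app P := fun P =>
    G.leftDerived_fac_app (tgtCounit f A) W (DCoh.LTensorCx B) (αB ≫ projNat f A) P
  have hiso : ∀ E : (DCoh.IsQCohD (X := Y)).FullSubcategory, IsIso (Θ.app E.obj) := fun E => by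
    obtain ⟨P, hP, ⟨e⟩⟩ := exists_kflat_rep E.obj
    have h1 : IsIso (αB.app P) := (cxResolvable_tensor B).isIso_app_of_isLeftDerivedFunctor (DCoh.LTensorCx B) αB hP
    have h2 : IsIso ((projNat f A).app P) := by
      have := isIso_projD_of_isQCohD f A hA hAq P hP (isQCohD_iso e.symm E.property)
      dsimp only [projNat]
      infer_instance
    have h3 := isIso_tgtCounit_app f A hP
    have h4 : IsIso (Θ.app (Q.obj P)) :=
      @IsIso.of_isIso_fac_right _ _ _ _ _ _ _ _ h3 (@IsIso.comp_isIso _ _ _ _ _ _ _ h1 h2) (hfac P)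
    exact (NatTrans.isIso_app_iff_of_iso Θ e).1 h4
  haveI : ∀ E, IsIso ((Functor.whiskerLeft (DCoh.IsQCohD (X := Y)).ι Θ).app E) := hiso
  exact ⟨@asIso _ _ _ _ (Functor.whiskerLeft (DCoh.IsQCohD (X := Y)).ι Θ) (NatIso.isIso_of_isIso_app _)⟩

end Proj

/-- **The projection formula, natural in the object downstairs.** -/
theorem nonempty_proj_down (f : X ⟶ Y) [QuasiCompact f] [QuasiSeparated f] [DCoh.HasLpull f] [DCoh.HasRpush f]
    (F : CochainComplex X.Modules ℤ) [DCoh.HasLTensorCx F] (hq : DCoh.IsQCohD (Q.obj F))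
    (B : CochainComplex Y.Modules ℤ) [DCoh.HasLTensorCx B] (eB : Q.obj B ≅ (DCoh.Rpush f).obj (Q.obj F)) :
    Nonempty ((DCoh.IsQCohD (X := Y)).ι ⋙ DCoh.LTensorCx B ≅
      (DCoh.IsQCohD (X := Y)).ι ⋙ DCoh.Lpull f ⋙ DCoh.LTensorCx F ⋙ DCoh.Rpush f) := by
  obtain ⟨A, a, ha, hA, hA'⟩ := KInj.exists_kInjective_resolution _ F
  let eA : Q.obj A ≅ Q.obj F := (asIso (Q.map a)).symm
  haveI := OX.hasLTensorCx A
  haveI := OX.hasLTensorCx ((pushCxF f).obj A)
  have hu : IsIso (pushUnit f A) :=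
    map_isIso_of (DCoh.pushKh f)
      (KInj.isIso_unit_of_rightOrthogonal (CochainComplex.IsKInjective.rightOrthogonal A))
  let eB' : Q.obj ((pushCxF f).obj A) ≅ Q.obj B :=
    ((qIso Y).app _).symm ≪≫ @asIso _ _ _ _ _ hu ≪≫
      (SiteDer.Rres (rmor f)).mapIso ((qIso X).app A ≪≫ eA) ≪≫ ((rpushIsoRres f).app _).symm ≪≫ eB.symm
  obtain ⟨T⟩ := nonempty_proj_injK f A ⟨hA', hA⟩ (isQCohD_iso eA.symm hq)
  obtain ⟨c⟩ := nonempty_ltensorCx_congr_of_iso eA
  obtain ⟨c'⟩ := nonempty_ltensorCx_congr_of_iso eB'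
  exact ⟨Functor.isoWhiskerLeft _ c'.symm ≪≫ T ≪≫
    Functor.isoWhiskerLeft _ (Functor.isoWhiskerLeft _ (Functor.isoWhiskerRight c _))⟩

/-- **The projection formula, natural in the object upstairs.** -/
theorem nonempty_proj_up (f : X ⟶ Y) [QuasiCompact f] [QuasiSeparated f] [DCoh.HasRpush f]
    (P : CochainComplex Y.Modules ℤ) (hP : DCoh.IsKFlat P) (hq : DCoh.IsQCohD (Q.obj P)) [DCoh.HasLTensorCx P]
    [DCoh.HasLTensorCx ((pullCxF f).obj P)] :
    Nonempty ((DCoh.IsQCohD (X := X)).ι ⋙ DCoh.Rpush f ⋙ DCoh.LTensorCx P ≅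
      (DCoh.IsQCohD (X := X)).ι ⋙ DCoh.LTensorCx ((pullCxF f).obj P) ⋙ DCoh.Rpush f) := by
  obtain ⟨τ⟩ := RightAdj22.nonempty_proj_nat f P hP hq
  exact ⟨Functor.isoWhiskerLeft _ (Functor.isoWhiskerRight (rpushIsoRres f) _) ≪≫ τ ≪≫
    Functor.isoWhiskerLeft _ (Functor.isoWhiskerLeft _ (rpushIsoRres f).symm)⟩

section Tensor

variable (f : X ⟶ Y) (P : CochainComplex Y.Modules ℤ)

/-- Pullback of complexes commutes with tensoring. -/
def pullTensNatIso : (DCoh.tensorCx (X := Y)).flip.obj P ⋙ pullCxF f ≅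
    pullCxF f ⋙ (DCoh.tensorCx (X := X)).flip.obj ((pullCxF f).obj P) :=
  NatIso.ofComponents (fun A => pullTensorCxIso f A P) (fun φ => pullTensorCxIso_natural₁ f φ P)

theorem cxResolvable_pullTens : Derive.CxResolvable DCoh.IsKFlat
    (pullCxF f ⋙ DCoh.tensorCxQ ((pullCxF f).obj P)) where
  homotopy _ _ a b := fun ⟨h⟩ =>
    (cxResolvable_tensor _).homotopy _ _ ⟨(Scheme.Modules.pullback f).mapHomotopy h⟩
  exists_res K := by
    obtain ⟨R, q, hR, -, hq, -⟩ := exists_kflat_resolution K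
    exact ⟨R, q, hR, hq⟩
  inverts K L φ hK hL hφ :=
    (cxResolvable_tensor _).inverts _ (isKFlat_pullback f hK) (isKFlat_pullback f hL) (quasiIso_pullback f φ hK hL)

variable [DCoh.HasLpull f] [DCoh.HasLTensorCx P] [DCoh.HasLTensorCx ((pullCxF f).obj P)]

/-- The counit of the derived tensor product. -/
def ltCounit (E : CochainComplex Y.Modules ℤ) [DCoh.HasLTensorCx E] :
    Q ⋙ DCoh.LTensorCx E ⟶ (DCoh.tensorCx (X := Y)).flip.obj E ⋙ Q :=
  (DCoh.tensorCxQ E).totalLeftDerivedCounit Q (HomologicalComplex.quasiIso Y.Modules (ComplexShape.up ℤ))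

theorem isIso_ltCounit_app (E : CochainComplex Y.Modules ℤ) [DCoh.HasLTensorCx E] {A : CochainComplex Y.Modules ℤ}
    (hA : DCoh.IsKFlat A) : IsIso ((ltCounit E).app A) :=
  (cxResolvable_tensor E).isIso_app_of_isLeftDerivedFunctor (DCoh.LTensorCx E)
    ((DCoh.tensorCxQ E).totalLeftDerivedCounit Q (HomologicalComplex.quasiIso Y.Modules (ComplexShape.up ℤ))) hA

/-- Tensor, then pull back. -/
def cmp₁ : Q ⋙ DCoh.LTensorCx P ⋙ DCoh.Lpull f ⟶ pullCxF f ⋙ DCoh.tensorCxQ ((pullCxF f).obj P) :=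
  (Functor.associator _ _ _).inv ≫ Functor.whiskerRight (ltCounit P) (DCoh.Lpull f) ≫ (Functor.associator _ _ _).hom ≫
    Functor.whiskerLeft ((DCoh.tensorCx (X := Y)).flip.obj P) (lpullCxCounit f) ≫
    (Functor.associator _ _ _).inv ≫ Functor.whiskerRight (pullTensNatIso f P).hom Q ≫ (Functor.associator _ _ _).hom

/-- Pull back, then tensor. -/
def cmp₂ : Q ⋙ DCoh.Lpull f ⋙ DCoh.LTensorCx ((pullCxF f).obj P) ⟶
    pullCxF f ⋙ DCoh.tensorCxQ ((pullCxF f).obj P) :=
  (Functor.associator _ _ _).inv ≫ Functor.whiskerRight (lpullCxCounit f) (DCoh.LTensorCx ((pullCxF f).obj P)) ≫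
    (Functor.associator _ _ _).hom ≫ Functor.whiskerLeft (pullCxF f) (ltCounit ((pullCxF f).obj P))

theorem isIso_cmp₁_app (hP : DCoh.IsKFlat P) {A : CochainComplex Y.Modules ℤ} (hA : DCoh.IsKFlat A) :
    IsIso ((cmp₁ f P).app A) := by
  have h1 := isIso_ltCounit_app P hA
  have h2 : IsIso ((lpullCxCounit f).app (((DCoh.tensorCx (X := Y)).flip.obj P).obj A)) :=
    isIso_lpullCxCounit_app f (flip_case DCoh.IsKFlat _ _ _ (isKFlat_tensor hA hP))
  simp only [cmp₁, NatTrans.comp_app, Functor.whiskerRight_app, Functor.whiskerLeft_app,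
    Functor.associator_hom_app, Functor.associator_inv_app, Category.id_comp, Category.comp_id]
  infer_instance

theorem isIso_cmp₂_app {A : CochainComplex Y.Modules ℤ} (hA : DCoh.IsKFlat A) : IsIso ((cmp₂ f P).app A) := by
  have h1 := isIso_lpullCxCounit_app f hA
  have h2 := isIso_ltCounit_app ((pullCxF f).obj P) (isKFlat_pullback f hA)
  simp only [cmp₂, NatTrans.comp_app, Functor.whiskerRight_app, Functor.whiskerLeft_app,
    Functor.associator_hom_app, Functor.associator_inv_app, Category.id_comp]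
  infer_instance

/-- **Derived pullback commutes with derived tensor products, naturally.** -/
theorem nonempty_lpull_ltensor_nat (hP : DCoh.IsKFlat P) :
    Nonempty (DCoh.LTensorCx P ⋙ DCoh.Lpull f ≅ DCoh.Lpull f ⋙ DCoh.LTensorCx ((pullCxF f).obj P)) :=
  have := (cxResolvable_pullTens f P).isLeftDerivedFunctor (DCoh.LTensorCx P ⋙ DCoh.Lpull f) (cmp₁ f P)
    fun _ hA => isIso_cmp₁_app f P hP hA
  have := (cxResolvable_pullTens f P).isLeftDerivedFunctor
    (DCoh.Lpull f ⋙ DCoh.LTensorCx ((pullCxF f).obj P)) (cmp₂ f P) fun _ hA => isIso_cmp₂_app f P hA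
  ⟨Functor.leftDerivedUnique _ _ (cmp₁ f P) (cmp₂ f P) (HomologicalComplex.quasiIso Y.Modules (ComplexShape.up ℤ))⟩

end Tensor

/-- **Base change with a flat leg, as functors on quasi-coherent objects.** -/
theorem nonempty_bc_nat {S S' X' : Scheme.{u}} {g' : X' ⟶ X} {f' : X' ⟶ S'} {f : X ⟶ S} {g : S' ⟶ S}
    (h : IsPullback g' f' f g) [QuasiCompact f] [QuasiSeparated f] (hflat : Flat f ∨ Flat g)
    [DCoh.HasRpush f] [DCoh.HasRpush f'] [DCoh.HasLpull g] [DCoh.HasLpull g'] :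
    Nonempty ((DCoh.IsQCohD (X := X)).ι ⋙ DCoh.Rpush f ⋙ DCoh.Lpull g ≅
      (DCoh.IsQCohD (X := X)).ι ⋙ DCoh.Lpull g' ⋙ DCoh.Rpush f') := by
  haveI : DCoh.HasRpush g := KInj.hasRightDerivedFunctor _
  haveI : DCoh.HasRpush g' := KInj.hasRightDerivedFunctor _
  obtain ⟨a⟩ := nonempty_lpullAdj g
  obtain ⟨a'⟩ := nonempty_lpullAdj g'
  let adj := a.ofNatIsoRight (rpushIsoRres g)
  let adj' := a'.ofNatIsoRight (rpushIsoRres g')
  have hbc : TorBC25.BC h := TorBC25.BC_of_torIndep h (BaseChange22.tor_of_flat hflat)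
  haveI : ∀ E, IsIso ((Functor.whiskerLeft (DCoh.IsQCohD (X := X)).ι (TorBC25.thANat h adj adj')).app E) := fun E =>
    hbc _ adj _ adj' E.obj E.property
  exact ⟨Functor.isoWhiskerLeft _ (Functor.isoWhiskerRight (rpushIsoRres f) _) ≪≫
    @asIso _ _ _ _ (Functor.whiskerLeft (DCoh.IsQCohD (X := X)).ι (TorBC25.thANat h adj adj'))
      (NatIso.isIso_of_isIso_app _) ≪≫
    Functor.isoWhiskerLeft _ (Functor.isoWhiskerLeft _ (rpushIsoRres f').symm)⟩

end GrothLib.FMComp25
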