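import Groth.Agent.Lib.FMComp25.Equiv
import Groth.Agent.Lib.KSix19.ExtTensor
import Groth.Agent.Lib.KSix19.TensorStalk
import Groth.Agent.Lib.AffBC.Basic
import Groth.Agent.Lib.ThickDesc6.Top
import Groth.Agent.Lib.OX.LocFreeTensor

/-! # The derived pullback of a closed subscheme flat over the base -/

set_option autoImplicit false
set_option maxHeartbeats 2000000
set_option linter.style.haveILetI false
set_option backward.isDefEq.respectTransparency false
universe u

open CategoryTheory CategoryTheory.Limits AlgebraicGeometry HomologicalComplex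
open DerivedCategory (Q Qh)

attribute [local instance] HasDerivedCategory.standard

noncomputable section

namespace GrothLib.FMComp25

open GrothLib.OX GrothLib.FMId25

variable {X P S : Scheme.{u}}

/-- Stalkwise relative amplitude bounds the cohomology sheaves from below. -/
theorem isGE_of_torAmplitude (g : X ⟶ S) {G : CochainComplex X.Modules ℤ} {c d : ℤ}
    (h : DerSch.HasTorAmplitude g c d G) : (DCoh.toD X G).IsGE c := by
  refine (DerivedCategory.isGE_iff _ _).2 fun i hi => ?_
  have hs : ∀ y : X, IsZero ((stalk y).obj (G.homology i)) := fun y => by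
    obtain ⟨E, hv, -, ⟨q⟩⟩ := h y
    obtain ⟨e⟩ := KSix19.nonempty_stalkCxOver g y G
    have hE : IsZero (E.homology i) :=
      (exactAt_iff_isZero_homology _ i).1 (ExactAt.of_isZero (hv i (Or.inl hi)))
    let C := (DRing.restrictCx (g.stalkMap y).hom).obj ((KSix19.stalkCx y).obj G)
    let w : DRing.toD E ≅ DRing.toD C := q ≪≫ e ≪≫ DR.restrictToDIso _ _
    have hz : IsZero (C.homology i) :=
      hE.of_iso (((DerivedCategory.homologyFunctorFactors _ i).app _).symm ≪≫
        (DerivedCategory.homologyFunctor _ i).mapIso w.symm ≪≫ (DerivedCategory.homologyFunctorFactors _ i).app _)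
    have hz' : ((KSix19.stalkCx y).obj G).ExactAt i :=
      (KF.exactAt_restrict_iff (g.stalkMap y).hom _ i).1 ((exactAt_iff_isZero_homology _ _).2 hz)
    exact ((exactAt_iff_isZero_homology _ _).1 hz').of_iso ((G.sc i).mapHomologyIso (stalk y)).symm
  have : IsIso (0 : G.homology i ⟶ G.homology i) :=
    (GrothLib.OX.isIso_iff _).2 fun y => ⟨0, (hs y).eq_of_src _ _, (hs y).eq_of_src _ _⟩
  exact ((IsZero.iff_id_eq_zero _).2 ((cancel_epi (0 : G.homology i ⟶ _)).1 (by simp))).of_iso
    ((DerivedCategory.homologyFunctorFactors _ i).app G)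

/-- A module on a closed subscheme flat over the base, pushed forward, is flat over the base. -/
theorem isFlatOver_closed (ι : X ⟶ P) [IsClosedImmersion ι] (p : P ⟶ S) {G : X.Modules}
    (hflat : FlatMod.IsFlatOver (ι ≫ p) G) : FlatMod.IsFlatOver p ((Scheme.Modules.pushforward ι).obj G) := by
  intro y
  by_cases hy : y ∈ Set.range ι
  · obtain ⟨x, rfl⟩ := hy
    letI : Module (S.presheaf.stalk (p (ι x))) (G.presheaf.stalk x) := FlatMod.moduleStalkOver (ι ≫ p) G x
    letI := FlatMod.moduleStalkOver p ((Scheme.Modules.pushforward ι).obj G) (ι x)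
    letI : Module (P.presheaf.stalk (ι x)) (G.presheaf.stalk x) := Module.compHom _ (ι.stalkMap x).hom
    let e : ((Scheme.Modules.pushforward ι).obj G).presheaf.stalk (ι x) ≃ₗ[P.presheaf.stalk (ι x)]
        G.presheaf.stalk x := ((OX.pushStalkIso ι x).app G).toLinearEquiv
    haveI : Module.Flat (S.presheaf.stalk (p (ι x))) (G.presheaf.stalk x) := hflat x
    let e' : ((Scheme.Modules.pushforward ι).obj G).presheaf.stalk (ι x) ≃ₗ[S.presheaf.stalk (p (ι x))]
        G.presheaf.stalk x :=
      { e.toAddEquiv with
        map_smul' := fun s m => by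
          refine (e.map_smul ((p.stalkMap (ι x)).hom s) m).trans ?_
          change (ι.stalkMap x).hom ((p.stalkMap (ι x)).hom s) • e m = ((ι ≫ p).stalkMap x).hom s • e m
          rw [Scheme.Hom.stalkMap_comp]
          rfl }
    exact Module.Flat.of_linearEquiv e'
  · haveI : Subsingleton (((Scheme.Modules.pushforward ι).obj G).presheaf.stalk y) :=
      not_not.1 fun h => hy (QCoh.support_pushforward_subset_range ι _ h)
    letI := FlatMod.moduleStalkOver p ((Scheme.Modules.pushforward ι).obj G) y
    show Module.Flat _ _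
    infer_instance

theorem nonempty_hd_inD (M : X.Modules) : Nonempty (DCoh.HD (DCoh.inD X M) 0 ≅ M) :=
  ⟨(DerivedCategory.homologyFunctor X.Modules 0).mapIso
      ((DerivedCategory.singleFunctorIsoCompQ X.Modules 0).app M) ≪≫
    (DerivedCategory.homologyFunctorFactors X.Modules 0).app _ ≪≫
    (HomologicalComplex.homologyFunctorSingleIso X.Modules (ComplexShape.up ℤ) 0).app M⟩

variable {X' P' S' : Scheme.{u}}

/-- **The structure sheaf of a closed subscheme flat over the base commutes with derived base change.** -/
theorem nonempty_lpull_closed (ι : X ⟶ P) [IsClosedImmersion ι] (p : P ⟶ S) (g : S' ⟶ S) (m : P' ⟶ P)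
    (p' : P' ⟶ S') (ι' : X' ⟶ P') (π : X' ⟶ X) (sqP : IsPullback m p' p g) (sqX : IsPullback π ι' ι m)
    [Flat p] [Flat (ι ≫ p)] [DCoh.HasLpull m] :
    Nonempty ((DCoh.Lpull m).obj (DCoh.inD P ((Coh.push ι).obj (Coh.structureModule X))) ≅
      DCoh.inD P' ((Coh.push ι').obj (Coh.structureModule X'))) := by
  let N := (Coh.push ι).obj (Coh.structureModule X)
  let F := (single P.Modules (ComplexShape.up ℤ) 0).obj N
  let eF : DCoh.toD P F ≅ DCoh.inD P N := ((DerivedCategory.singleFunctorIsoCompQ P.Modules 0).app N).symm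
  have hfl : FlatMod.IsFlatOver (ι ≫ p) (Coh.structureModule X) := Seesaw26.isFlatOver_structure _
  have hN : FlatMod.IsFlatOver p N := isFlatOver_closed ι p hfl
  have hF : DerSch.HasTorAmplitude p 0 0 F := fun x => (KSix19.hasTorAmplitudeAt_single_iff p x N).2 (hN x)
  have HY : IsPullback g (𝟙 S') (𝟙 S) g := IsPullback.of_vert_isIso ⟨by simp⟩
  haveI : Flat (𝟙 S) := inferInstance
  haveI : Flat (p ≫ 𝟙 S) := by rw [Category.comp_id]; infer_instance
  have hD := KSix19.hasTorAmplitudeD_lpull_flat_base HY sqP hF
  let K := (DCoh.Lpull m).obj (DCoh.toD P F)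
  let W := DerivedCategory.Q.objPreimage K
  let eW : DCoh.toD P' W ≅ K := DerivedCategory.Q.objObjPreimageIso K
  have hW := hD W ⟨eW⟩
  haveI h1 : (DCoh.toD P' W).IsLE 0 := KSix19.isLE_of_torAmplitude p' hW
  haveI h2 : (DCoh.toD P' W).IsGE 0 := isGE_of_torAmplitude p' hW
  obtain ⟨M, ⟨eM⟩⟩ := DerivedCategory.exists_iso_singleFunctor_obj_of_isGE_of_isLE (DCoh.toD P' W) 0
  haveI : (DCoh.toD P F).IsLE 0 := KSix19.isLE_of_torAmplitude p hF
  obtain ⟨t⟩ := ThickDesc6.nonempty_hd_lpull_top m (DCoh.toD P F) 0 inferInstance
  obtain ⟨a⟩ := nonempty_hd_inD M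
  obtain ⟨b⟩ := nonempty_hd_inD N
  haveI : (Coh.structureModule X).IsQuasicoherent := WeakAss.isQuasicoherent_structureModule
  haveI := AffBC.isIso_bcMap sqX.flip.flip (Coh.structureModule X)
  let H := DerivedCategory.homologyFunctor P'.Modules 0
  let eMN : M ≅ (Coh.push ι').obj (Coh.structureModule X') :=
    a.symm ≪≫ H.mapIso (eM.symm ≪≫ eW) ≪≫ t ≪≫
      (Scheme.Modules.pullback m).mapIso ((DerivedCategory.homologyFunctor P.Modules 0).mapIso eF ≪≫ b) ≪≫
      @asIso _ _ _ _ _ (AffBC.isIso_bcMap sqX (Coh.structureModule X)) ≪≫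
      (Scheme.Modules.pushforward ι').mapIso (pullUnitIso π)
  exact ⟨(DCoh.Lpull m).mapIso eF.symm ≪≫ eW.symm ≪≫ eM ≪≫ (DerivedCategory.singleFunctor P'.Modules 0).mapIso eMN⟩

/-- Composite kernels commute with a change of the base. -/
theorem nonempty_conv_map {S S' X Y Z : Scheme.{u}} (a : X ⟶ S) (b : Y ⟶ S) (c : Z ⟶ S) (g : S' ⟶ S)
    [Flat a] [Flat b] [QuasiCompact b] [QuasiSeparated b]
    (K : CochainComplex (pullback a b).Modules ℤ) (M : CochainComplex (pullback b c).Modules ℤ)
    (hK : DCoh.IsQCohD (Q.obj K)) (hM : DCoh.IsQCohD (Q.obj M))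
    [DCoh.HasLpull (FMK.p12 a b c)] [DCoh.HasLTensorCx ((FMK.cxPull (FMK.p23 a b c)).obj M)]
    [DCoh.HasRpush (FMK.p13 a b c)]
    [DCoh.HasLpull (pullback.map (pullback.snd a g) (pullback.snd b g) a b
      (pullback.fst a g) (pullback.fst b g) g pullback.condition.symm pullback.condition.symm)]
    [DCoh.HasLpull (pullback.map (pullback.snd b g) (pullback.snd c g) b c
      (pullback.fst b g) (pullback.fst c g) g pullback.condition.symm pullback.condition.symm)]
    [DCoh.HasLpull (pullback.map (pullback.snd a g) (pullback.snd c g) a c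
      (pullback.fst a g) (pullback.fst c g) g pullback.condition.symm pullback.condition.symm)]
    (K₁ : CochainComplex (pullback (pullback.snd a g) (pullback.snd b g)).Modules ℤ)
    (M₁ : CochainComplex (pullback (pullback.snd b g) (pullback.snd c g)).Modules ℤ)
    (eK : Q.obj K₁ ≅ (DCoh.Lpull (pullback.map (pullback.snd a g) (pullback.snd b g) a b
      (pullback.fst a g) (pullback.fst b g) g pullback.condition.symm pullback.condition.symm)).obj (Q.obj K))
    (eM : Q.obj M₁ ≅ (DCoh.Lpull (pullback.map (pullback.snd b g) (pullback.snd c g) b c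
      (pullback.fst b g) (pullback.fst c g) g pullback.condition.symm pullback.condition.symm)).obj (Q.obj M))
    [DCoh.HasLpull (FMK.p12 (pullback.snd a g) (pullback.snd b g) (pullback.snd c g))]
    [DCoh.HasLTensorCx ((FMK.cxPull (FMK.p23 (pullback.snd a g) (pullback.snd b g) (pullback.snd c g))).obj M₁)]
    [DCoh.HasRpush (FMK.p13 (pullback.snd a g) (pullback.snd b g) (pullback.snd c g))] :
    Nonempty ((DCoh.Lpull (pullback.map (pullback.snd a g) (pullback.snd c g) a c
      (pullback.fst a g) (pullback.fst c g) g pullback.condition.symm pullback.condition.symm)).obj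
        (FMK.conv a b c K ((FMK.cxPull (FMK.p23 a b c)).obj M)) ≅
      FMK.conv (pullback.snd a g) (pullback.snd b g) (pullback.snd c g) K₁
        ((FMK.cxPull (FMK.p23 (pullback.snd a g) (pullback.snd b g) (pullback.snd c g))).obj M₁)) := by
  let a' := pullback.snd a g
  let b' := pullback.snd b g
  let c' := pullback.snd c g
  let mA := pullback.map a' b' a b (pullback.fst a g) (pullback.fst b g) g
    pullback.condition.symm pullback.condition.symm
  let mB := pullback.map b' c' b c (pullback.fst b g) (pullback.fst c g) g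
    pullback.condition.symm pullback.condition.symm
  let mT : FMK.T a' b' c' ⟶ FMK.T a b c := pullback.map (pullback.snd a' b') (pullback.fst b' c')
    (pullback.snd a b) (pullback.fst b c) mA mB (pullback.fst b g)
    (pullback.lift_snd _ _ _).symm (pullback.lift_fst _ _ _).symm
  have hA : mT ≫ FMK.p12 a b c = FMK.p12 a' b' c' ≫ mA := pullback.lift_fst _ _ _
  have hB : mT ≫ FMK.p23 a b c = FMK.p23 a' b' c' ≫ mB := pullback.lift_snd _ _ _
  have sq := isPullback_p13 a b c
  have sq' := isPullback_p13 a' b' c'
  have hmC := isPullback_map_snd a c g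
  have outer := sq'.paste_horiz (isPullback_map_snd b c g)
  rw [← hB, ← hmC.w] at outer
  have sqT : IsPullback mT (FMK.p13 a' b' c') (FMK.p13 a b c) _ := outer.of_right (by
    apply pullback.hom_ext
    · rw [Category.assoc, Category.assoc, FMK.p13_fst, reassoc_of% hA, pullback.lift_fst, pullback.lift_fst,
        FMK.p13_fst_assoc]
    · rw [Category.assoc, Category.assoc, FMK.p13_snd, reassoc_of% hB, pullback.lift_snd, pullback.lift_snd,
        FMK.p13_snd_assoc]) sq
  haveI : Flat (pullback.snd a b) :=
    MorphismProperty.of_isPullback (P := @Flat) (IsPullback.of_hasPullback a b) inferInstance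
  haveI : Flat (FMK.p23 a b c) := MorphismProperty.of_isPullback (P := @Flat)
    (IsPullback.of_hasPullback (pullback.snd a b) (pullback.fst b c)) inferInstance
  haveI : Flat a' := MorphismProperty.of_isPullback (P := @Flat) (IsPullback.of_hasPullback a g) inferInstance
  haveI : Flat (pullback.snd a' b') :=
    MorphismProperty.of_isPullback (P := @Flat) (IsPullback.of_hasPullback a' b') inferInstance
  haveI : Flat (FMK.p23 a' b' c') := MorphismProperty.of_isPullback (P := @Flat)
    (IsPullback.of_hasPullback (pullback.snd a' b') (pullback.fst b' c')) inferInstance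
  haveI : QuasiCompact (pullback.snd b c) := (qcqs_snd b c).1
  haveI : QuasiSeparated (pullback.snd b c) := (qcqs_snd b c).2
  haveI : Flat (pullback.snd b c) :=
    MorphismProperty.of_isPullback (P := @Flat) (IsPullback.of_hasPullback b c) inferInstance
  haveI : QuasiCompact (FMK.p13 a b c) := MorphismProperty.of_isPullback (P := @QuasiCompact) sq inferInstance
  haveI : QuasiSeparated (FMK.p13 a b c) := MorphismProperty.of_isPullback (P := @QuasiSeparated) sq inferInstance
  haveI : Flat (FMK.p13 a b c) := MorphismProperty.of_isPullback (P := @Flat) sq inferInstance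
  exact nonempty_conv_bc _ _ _ _ _ _ mA mB _ mT sqT hA hB (Or.inl inferInstance) K M K₁ M₁ hK hM eK eM

/-- The base change of the diagonal kernel. -/
theorem nonempty_lpull_diagO {S S' X : Scheme.{u}} (a : X ⟶ S) (g : S' ⟶ S) [Flat a] [IsSeparated a]
    [DCoh.HasLpull (pullback.map (pullback.snd a g) (pullback.snd a g) a a
      (pullback.fst a g) (pullback.fst a g) g pullback.condition.symm pullback.condition.symm)] :
    Nonempty ((DCoh.Lpull (pullback.map (pullback.snd a g) (pullback.snd a g) a a
      (pullback.fst a g) (pullback.fst a g) g pullback.condition.symm pullback.condition.symm)).obj (FMK.diagO a) ≅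
      FMK.diagO (pullback.snd a g)) := by
  let a' := pullback.snd a g
  let π := pullback.fst a g
  let m := pullback.map a' a' a a π π g pullback.condition.symm pullback.condition.symm
  have hm := isPullback_map_snd a a g
  haveI : Flat (pullback.snd a a) :=
    MorphismProperty.of_isPullback (P := @Flat) (IsPullback.of_hasPullback a a) inferInstance
  haveI : Flat (pullback.diagonal a ≫ pullback.snd a a ≫ a) := by rw [pullback.diagonal_snd_assoc]; infer_instance
  have sqP := hm.paste_vert (IsPullback.of_hasPullback a g)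
  have sqX : IsPullback π (pullback.diagonal a') (pullback.diagonal a) m := by
    refine IsPullback.of_bot ?_ ?_ hm
    · rw [pullback.diagonal_snd, pullback.diagonal_snd]
      exact IsPullback.of_vert_isIso ⟨by rw [Category.comp_id, Category.id_comp]⟩
    · apply pullback.hom_ext
      · rw [Category.assoc, Category.assoc, pullback.diagonal_fst, pullback.lift_fst, ← Category.assoc (pullback.diagonal a'),
          pullback.diagonal_fst, Category.id_comp, Category.comp_id]
      · rw [Category.assoc, Category.assoc, pullback.diagonal_snd, pullback.lift_snd, ← Category.assoc (pullback.diagonal a'),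
          pullback.diagonal_snd, Category.id_comp, Category.comp_id]
  exact nonempty_lpull_closed (pullback.diagonal a) (pullback.snd a a ≫ a) g m
    (pullback.snd a' a' ≫ a') (pullback.diagonal a') π sqP sqX

end GrothLib.FMComp25
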