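import Groth.Agent.Lib.FMComp25.BaseChange
import Groth.Agent.Lib.OX.PullbackFlat
import Groth.Agent.Lib.OX.PerfectEnvelope

/-! # Base change of composite kernels -/

set_option autoImplicit false
set_option maxHeartbeats 2000000
set_option linter.style.haveILetI false
set_option backward.isDefEq.respectTransparency false
universe u

open CategoryTheory CategoryTheory.Limits AlgebraicGeometry HomologicalComplex
open DerivedCategory (Q Qh)

attribute [local instance] HasDerivedCategory.standard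

noncomputable section

namespace GrothLib.FMComp25

open GrothLib.OX GrothLib.FMId25

/-- Along a flat morphism the termwise inverse image of any complex is the derived one. -/
theorem nonempty_pullCx_flat {X Y : Scheme.{u}} (v : X ⟶ Y) [Flat v] [DCoh.HasLpull v]
    (M : CochainComplex Y.Modules ℤ) :
    Nonempty (Q.obj ((pullCxF v).obj M) ≅ (DCoh.Lpull v).obj (Q.obj M)) := by
  haveI := additive_pullback v
  haveI := preservesFiniteLimits_pullback_of_flat v
  haveI : PreservesColimitsOfSize.{u, u} (Scheme.Modules.pullback v) :=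
    (Scheme.Modules.pullbackPushforwardAdjunction v).leftAdjoint_preservesColimits
  haveI : PreservesFiniteColimits (Scheme.Modules.pullback v) := inferInstance
  obtain ⟨P, π, hP, -, hπ, -⟩ := exists_kflat_resolution M
  obtain ⟨w⟩ := lpull_value v P hP
  haveI : QuasiIso ((pullCxF v).map π) := by infer_instance
  exact ⟨(asIso (Q.map ((pullCxF v).map π))).symm ≪≫ w.symm ≪≫ (DCoh.Lpull v).mapIso (asIso (Q.map π))⟩

variable {T T' A A' B B' C C' : Scheme.{u}}

/-- **Composite kernels commute with base change, for abstract squares.** -/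
theorem nonempty_conv_bc (u : T ⟶ A) (v : T ⟶ B) (w : T ⟶ C) (u' : T' ⟶ A') (v' : T' ⟶ B') (w' : T' ⟶ C')
    (mA : A' ⟶ A) (mB : B' ⟶ B) (mC : C' ⟶ C) (mT : T' ⟶ T) (sq : IsPullback mT w' w mC)
    (hA : mT ≫ u = u' ≫ mA) (hB : mT ≫ v = v' ≫ mB)
    [Flat v] [Flat v'] [QuasiCompact w] [QuasiSeparated w] (hflat : Flat w ∨ Flat mC)
    (K : CochainComplex A.Modules ℤ) (M : CochainComplex B.Modules ℤ) (K₁ : CochainComplex A'.Modules ℤ)
    (M₁ : CochainComplex B'.Modules ℤ) (hK : DCoh.IsQCohD (Q.obj K)) (hM : DCoh.IsQCohD (Q.obj M))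
    [DCoh.HasLpull u] [DCoh.HasLTensorCx ((pullCxF v).obj M)] [DCoh.HasRpush w]
    [DCoh.HasLpull mA] [DCoh.HasLpull mB] [DCoh.HasLpull mC]
    (eK : Q.obj K₁ ≅ (DCoh.Lpull mA).obj (Q.obj K)) (eM : Q.obj M₁ ≅ (DCoh.Lpull mB).obj (Q.obj M))
    [DCoh.HasLpull u'] [DCoh.HasLTensorCx ((pullCxF v').obj M₁)] [DCoh.HasRpush w'] :
    Nonempty ((DCoh.Lpull mC).obj ((DCoh.Rpush w).obj
        ((DCoh.LTensorCx ((pullCxF v).obj M)).obj ((DCoh.Lpull u).obj (Q.obj K)))) ≅
      (DCoh.Rpush w').obj ((DCoh.LTensorCx ((pullCxF v').obj M₁)).obj ((DCoh.Lpull u').obj (Q.obj K₁)))) := by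
  haveI := OX.hasLpull mT
  haveI := OX.hasLpull v
  haveI := OX.hasLpull v'
  haveI := OX.hasLpull (mT ≫ v)
  haveI := OX.hasLpull (v' ≫ mB)
  haveI := OX.hasLpull (mT ≫ u)
  haveI := OX.hasLpull (u' ≫ mA)
  let L := (pullCxF v).obj M
  obtain ⟨fv⟩ := nonempty_pullCx_flat v M
  obtain ⟨fv'⟩ := nonempty_pullCx_flat v' M₁
  obtain ⟨L₁, hL₁, ⟨eL⟩⟩ := exists_kflat_rep (Q.obj L)
  let L₀ := (pullCxF mT).obj L₁
  haveI := OX.hasLTensorCx L₁
  haveI := OX.hasLTensorCx L₀
  obtain ⟨vL⟩ := lpull_value mT L₁ hL₁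
  have hqL : DCoh.IsQCohD (Q.obj L) := isQCohD_iso fv.symm (SuppTens22.isQCohD_lpull v hM)
  have hqE := RightAdj22.isQCohD_ltensor L hqL (SuppTens22.isQCohD_lpull u hK)
  obtain ⟨bc⟩ := nonempty_bc_nat sq hflat
  obtain ⟨lt⟩ := nonempty_lpull_ltensor_nat mT L₁ hL₁
  obtain ⟨c⟩ := nonempty_ltensorCx_congr_of_iso eL.symm
  obtain ⟨c'⟩ := nonempty_ltensorCx_congr_of_iso
    (vL.symm ≪≫ (DCoh.Lpull mT).mapIso (eL ≪≫ fv) ≪≫ (lpullCompIso mT v).app _ ≪≫ (lpullCongr hB).app _ ≪≫
      (lpullCompIso v' mB).symm.app _ ≪≫ (DCoh.Lpull v').mapIso eM.symm ≪≫ fv'.symm :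
      Q.obj L₀ ≅ Q.obj ((pullCxF v').obj M₁))
  exact ⟨bc.app ⟨_, hqE⟩ ≪≫ (DCoh.Rpush w').mapIso ((DCoh.Lpull mT).mapIso (c.app _) ≪≫ lt.app _ ≪≫ c'.app _ ≪≫
    (DCoh.LTensorCx _).mapIso ((lpullCompIso mT u).app _ ≪≫ (lpullCongr hA).app _ ≪≫
      (lpullCompIso u' mA).symm.app _ ≪≫ (DCoh.Lpull u').mapIso eK.symm))⟩

/-- The square induced on fibre products by a change of the base. -/
theorem isPullback_map_snd {S S' X Y : Scheme.{u}} (a : X ⟶ S) (b : Y ⟶ S) (g : S' ⟶ S) :
    IsPullback (pullback.map (pullback.snd a g) (pullback.snd b g) a b (pullback.fst a g) (pullback.fst b g) g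
        pullback.condition.symm pullback.condition.symm)
      (pullback.snd (pullback.snd a g) (pullback.snd b g)) (pullback.snd a b) (pullback.fst b g) := by
  refine IsPullback.of_right ?_ (pullback.lift_snd _ _ _) (IsPullback.of_hasPullback a b)
  rw [pullback.lift_fst, pullback.condition (f := b) (g := g)]
  exact (IsPullback.of_hasPullback (pullback.snd a g) (pullback.snd b g)).paste_horiz
    (IsPullback.of_hasPullback a g)

/-- The triple product is a base change of the product of the last two factors. -/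
theorem isPullback_p13 {S X Y Z : Scheme.{u}} (a : X ⟶ S) (b : Y ⟶ S) (c : Z ⟶ S) :
    IsPullback (FMK.p23 a b c) (FMK.p13 a b c) (pullback.snd b c) (pullback.snd a c) := by
  refine (IsPullback.of_right ?_ (FMK.p13_snd a b c) (IsPullback.of_hasPullback a c)).flip
  rw [FMK.p13_fst, show pullback.snd b c ≫ c = pullback.fst b c ≫ b from pullback.condition.symm]
  exact ((IsPullback.of_hasPullback (pullback.snd a b) (pullback.fst b c)).flip.paste_vert
    ((IsPullback.of_hasPullback a b).flip)).flip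

end GrothLib.FMComp25
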