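import Groth.Agent.Lib.FMComp25.Basic
import Groth.Agent.Lib.SuppTens22.Basic

/-! # Composition of Fourier–Mukai transforms -/

set_option autoImplicit false
set_option maxHeartbeats 2000000
set_option linter.style.haveILetI false
set_option backward.isDefEq.respectTransparency false
universe u

open CategoryTheory CategoryTheory.Limits AlgebraicGeometry HomologicalComplex
open DerivedCategory (Q Qh)

attribute [local instance] HasDerivedCategory.standard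

noncomputable section

namespace GrothLib.FMComp25

open GrothLib.OX GrothLib.FMId25

/-- An identification of functors restricted to a full subcategory, read on functors landing there. -/
def restrictIso {C D E : Type*} [Category C] [Category D] [Category E] {P : ObjectProperty D} {F G : D ⥤ E}
    (τ : P.ι ⋙ F ≅ P.ι ⋙ G) (H : C ⥤ D) (hH : ∀ X, P (H.obj X)) : H ⋙ F ≅ H ⋙ G :=
  Functor.isoWhiskerRight (P.liftCompιIso H hH).symm F ≪≫ Functor.associator _ _ _ ≪≫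
    Functor.isoWhiskerLeft (P.lift H hH) τ ≪≫ (Functor.associator _ _ _).symm ≪≫
    Functor.isoWhiskerRight (P.liftCompιIso H hH) G

variable {X Y Z A B C T : Scheme.{u}}

/-- **Fourier–Mukai transforms compose, for an abstract triple product.** -/
theorem nonempty_fm_comp (p : A ⟶ X) (q : A ⟶ Y) (r : B ⟶ Y) (s : B ⟶ Z) (u : T ⟶ A) (v : T ⟶ B) (w : T ⟶ C)
    (g : C ⟶ X) (k : C ⟶ Z) (sq : IsPullback u v q r) (hwg : w ≫ g = u ≫ p) (hwk : w ≫ k = v ≫ s)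
    [QuasiCompact q] [QuasiSeparated q] [QuasiCompact v] [QuasiSeparated v] [QuasiCompact w] [QuasiSeparated w]
    (hflat : Flat q ∨ Flat r)
    (K : CochainComplex A.Modules ℤ) (M : CochainComplex B.Modules ℤ) (hK : DCoh.IsQCohD (Q.obj K))
    (hM : DCoh.IsQCohD (Q.obj M))
    [DCoh.HasLpull p] [DCoh.HasLTensorCx K] [DCoh.HasRpush q] [DCoh.HasLpull r] [DCoh.HasLTensorCx M]
    [DCoh.HasRpush s] [DCoh.HasLpull u] [DCoh.HasLpull v] [DCoh.HasRpush w] [DCoh.HasLpull g] [DCoh.HasRpush k]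
    (L : CochainComplex T.Modules ℤ) [DCoh.HasLTensorCx L]
    (eL : Q.obj L ≅ (DCoh.Lpull v).obj (Q.obj M))
    (N : CochainComplex C.Modules ℤ) [DCoh.HasLTensorCx N]
    (eN : Q.obj N ≅ (DCoh.Rpush w).obj ((DCoh.LTensorCx L).obj ((DCoh.Lpull u).obj (Q.obj K)))) :
    Nonempty ((DCoh.IsQCohD (X := X)).ι ⋙ (DCoh.Lpull g ⋙ DCoh.LTensorCx N ⋙ DCoh.Rpush k) ≅
      (DCoh.IsQCohD (X := X)).ι ⋙ (DCoh.Lpull p ⋙ DCoh.LTensorCx K ⋙ DCoh.Rpush q) ⋙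
        (DCoh.Lpull r ⋙ DCoh.LTensorCx M ⋙ DCoh.Rpush s)) := by
  -- representatives
  obtain ⟨K₁, hK₁, ⟨eK⟩⟩ := exists_kflat_rep (Q.obj K)
  obtain ⟨M₁, hM₁, ⟨eM⟩⟩ := exists_kflat_rep (Q.obj M)
  let K₀ := (pullCxF u).obj K₁
  let L₀ := (pullCxF v).obj M₁
  have hK₀ : DCoh.IsKFlat K₀ := isKFlat_pullback u hK₁
  have hL₀ : DCoh.IsKFlat L₀ := isKFlat_pullback v hM₁
  let G := ((DCoh.tensorCx (X := T)).obj K₀).obj L₀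
  haveI := OX.hasLTensorCx K₁
  haveI := OX.hasLTensorCx M₁
  haveI := OX.hasLTensorCx K₀
  haveI := OX.hasLTensorCx L₀
  haveI := OX.hasLTensorCx G
  haveI := OX.hasLpull w
  haveI := OX.hasLpull (w ≫ g)
  haveI := OX.hasLpull (u ≫ p)
  haveI : DCoh.HasRpush v := KInj.hasRightDerivedFunctor _
  haveI : DCoh.HasRpush (w ≫ k) := KInj.hasRightDerivedFunctor _
  haveI : DCoh.HasRpush (v ≫ s) := KInj.hasRightDerivedFunctor _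
  obtain ⟨vu⟩ := lpull_value u K₁ hK₁
  obtain ⟨vv⟩ := lpull_value v M₁ hM₁
  obtain ⟨cK⟩ := nonempty_ltensorCx_congr_of_iso eK.symm
  obtain ⟨cM⟩ := nonempty_ltensorCx_congr_of_iso eM.symm
  let eL₀ : Q.obj L ≅ Q.obj L₀ := eL ≪≫ (DCoh.Lpull v).mapIso eM.symm ≪≫ vv
  obtain ⟨cL⟩ := nonempty_ltensorCx_congr_of_iso eL₀
  have hqK₀ : DCoh.IsQCohD (Q.obj K₀) :=
    isQCohD_iso vu (SuppTens22.isQCohD_lpull u (isQCohD_iso eK.symm hK))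
  have hqM₁ : DCoh.IsQCohD (Q.obj M₁) := isQCohD_iso eM.symm hM
  have hqL₀ : DCoh.IsQCohD (Q.obj L₀) := isQCohD_iso vv (SuppTens22.isQCohD_lpull v hqM₁)
  obtain ⟨vG⟩ := ltensorCx_value L₀ K₀ hK₀
  have hqG : DCoh.IsQCohD (Q.obj G) := isQCohD_iso vG (RightAdj22.isQCohD_ltensor L₀ hqL₀ hqK₀)
  let eN₀ : Q.obj N ≅ (DCoh.Rpush w).obj (Q.obj G) := eN ≪≫ (DCoh.Rpush w).mapIso
    (cL.app _ ≪≫ (DCoh.LTensorCx L₀).mapIso ((DCoh.Lpull u).mapIso eK.symm ≪≫ vu) ≪≫ vG)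
  -- the natural pieces
  obtain ⟨pd⟩ := nonempty_proj_down w G hqG N eN₀
  obtain ⟨bc⟩ := nonempty_bc_nat sq hflat
  obtain ⟨pu⟩ := nonempty_proj_up v M₁ hM₁ hqM₁
  obtain ⟨lt⟩ := nonempty_lpull_ltensor_nat u K₁ hK₁
  let ι := (DCoh.IsQCohD (X := X)).ι
  have h1 : ∀ E : (DCoh.IsQCohD (X := X)).FullSubcategory, DCoh.IsQCohD ((ι ⋙ DCoh.Lpull g).obj E) :=
    fun E => SuppTens22.isQCohD_lpull g E.property
  have h2 : ∀ E : (DCoh.IsQCohD (X := X)).FullSubcategory,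
      DCoh.IsQCohD ((ι ⋙ DCoh.Lpull p ⋙ DCoh.LTensorCx K).obj E) :=
    fun E => RightAdj22.isQCohD_ltensor K hK (SuppTens22.isQCohD_lpull p E.property)
  have h3 : ∀ E : (DCoh.IsQCohD (X := X)).FullSubcategory,
      DCoh.IsQCohD ((ι ⋙ DCoh.Lpull p ⋙ DCoh.LTensorCx K ⋙ DCoh.Lpull u).obj E) :=
    fun E => SuppTens22.isQCohD_lpull u (h2 E)
  let J := ι ⋙ DCoh.Lpull (u ≫ p) ⋙ DCoh.LTensorCx G
  -- the left side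
  let a : ι ⋙ (DCoh.Lpull g ⋙ DCoh.LTensorCx N ⋙ DCoh.Rpush k) ≅ J ⋙ DCoh.Rpush (v ≫ s) :=
    (Functor.isoWhiskerRight (restrictIso pd (ι ⋙ DCoh.Lpull g) h1) (DCoh.Rpush k) :
      ((ι ⋙ DCoh.Lpull g) ⋙ DCoh.LTensorCx N) ⋙ DCoh.Rpush k ≅ _) ≪≫
    (Functor.isoWhiskerLeft (ι ⋙ (DCoh.Lpull g ⋙ DCoh.Lpull w) ⋙ DCoh.LTensorCx G)
      (rpushComp w k ≪≫ rpushCongr hwk) :
      (ι ⋙ (DCoh.Lpull g ⋙ DCoh.Lpull w) ⋙ DCoh.LTensorCx G) ⋙ (DCoh.Rpush w ⋙ DCoh.Rpush k) ≅ _) ≪≫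
    Functor.isoWhiskerRight (Functor.isoWhiskerLeft ι (Functor.isoWhiskerRight
      (lpullCompIso w g ≪≫ lpullCongr hwg) (DCoh.LTensorCx G))) (DCoh.Rpush (v ≫ s))
  -- the right side
  let b1 : ι ⋙ (DCoh.Lpull p ⋙ DCoh.LTensorCx K ⋙ DCoh.Rpush q) ⋙ (DCoh.Lpull r ⋙ DCoh.LTensorCx M ⋙ DCoh.Rpush s) ≅
      (ι ⋙ DCoh.Lpull p ⋙ DCoh.LTensorCx K ⋙ DCoh.Lpull u) ⋙ (DCoh.Rpush v ⋙ DCoh.LTensorCx M₁) ⋙ DCoh.Rpush s :=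
    (Functor.isoWhiskerRight (restrictIso bc (ι ⋙ DCoh.Lpull p ⋙ DCoh.LTensorCx K) h2)
      (DCoh.LTensorCx M ⋙ DCoh.Rpush s) :
      ((ι ⋙ DCoh.Lpull p ⋙ DCoh.LTensorCx K) ⋙ DCoh.Rpush q ⋙ DCoh.Lpull r) ⋙ _ ≅ _) ≪≫
    (Functor.isoWhiskerLeft ((ι ⋙ DCoh.Lpull p ⋙ DCoh.LTensorCx K ⋙ DCoh.Lpull u) ⋙ DCoh.Rpush v)
      (Functor.isoWhiskerRight cM (DCoh.Rpush s)))
  let b2 : (ι ⋙ DCoh.Lpull p ⋙ DCoh.LTensorCx K ⋙ DCoh.Lpull u) ⋙ (DCoh.Rpush v ⋙ DCoh.LTensorCx M₁) ⋙ DCoh.Rpush s ≅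
      (ι ⋙ DCoh.Lpull p ⋙ (DCoh.LTensorCx K ⋙ DCoh.Lpull u)) ⋙ DCoh.LTensorCx L₀ ⋙ DCoh.Rpush (v ≫ s) :=
    (Functor.associator _ _ _).symm ≪≫
      Functor.isoWhiskerRight (restrictIso pu (ι ⋙ DCoh.Lpull p ⋙ DCoh.LTensorCx K ⋙ DCoh.Lpull u) h3) (DCoh.Rpush s) ≪≫
      (Functor.isoWhiskerLeft ((ι ⋙ DCoh.Lpull p ⋙ DCoh.LTensorCx K ⋙ DCoh.Lpull u) ⋙ DCoh.LTensorCx L₀)
        (rpushComp v s) : _ ⋙ (DCoh.Rpush v ⋙ DCoh.Rpush s) ≅ _)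
  let b3 : (ι ⋙ DCoh.Lpull p ⋙ (DCoh.LTensorCx K ⋙ DCoh.Lpull u)) ⋙ DCoh.LTensorCx L₀ ⋙ DCoh.Rpush (v ≫ s) ≅
      J ⋙ DCoh.Rpush (v ≫ s) :=
    Functor.isoWhiskerRight (Functor.isoWhiskerLeft ι (Functor.isoWhiskerLeft (DCoh.Lpull p)
        (Functor.isoWhiskerRight cK _ ≪≫ lt))) _ ≪≫
      (Functor.isoWhiskerRight (Functor.isoWhiskerLeft ι
        (NatIso.hcomp (lpullCompIso u p) (ltensorCompIso K₀ L₀ hL₀))) (DCoh.Rpush (v ≫ s)) :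
        (ι ⋙ (DCoh.Lpull p ⋙ DCoh.Lpull u) ⋙ (DCoh.LTensorCx K₀ ⋙ DCoh.LTensorCx L₀)) ⋙ DCoh.Rpush (v ≫ s) ≅ _)
  exact ⟨a ≪≫ (b1 ≪≫ b2 ≪≫ b3).symm⟩

end GrothLib.FMComp25
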